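import Mathlib
import Groth.Agent.ResolEmbLib.Main
import Groth.Agent.ConormalInjLib.Main
import Groth.Agent.S9772
import Groth.Agent.QCohLib.AffineFinite
import Groth.Agent.S8267

/-!
# The first neighbourhood of the zero section of a vector bundle
-/

set_option autoImplicit false
set_option linter.style.haveILetI false
set_option linter.unusedSectionVars false

universe u

open AlgebraicGeometry CategoryTheory CategoryTheory.Limits Opposite TopologicalSpace
open CycBdlLib (toF preimage_le)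
open SymmetricAlgebra (algebraMapInv)

noncomputable section

namespace SplitRibLib

section Ring

variable (R N : Type u) [CommRing R] [AddCommGroup N] [Module R N]

theorem sub_mem_sq (x : SymmetricAlgebra R N) :
    x - algebraMap R _ (algebraMapInv x) - SymmetricAlgebra.ι R N (ResolEmbLib.lin R N x) ∈
      RingHom.ker (algebraMapInv (R := R) (M := N)).toRingHom ^ 2 := by
  set K := RingHom.ker (algebraMapInv (R := R) (M := N)).toRingHom with hK
  induction x using SymmetricAlgebra.induction with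
  | algebraMap r =>
    rw [AlgHom.commutes, ResolEmbLib.lin_algebraMap, map_zero, sub_zero]
    simp
  | ι m =>
    rw [SymmetricAlgebra.algebraMapInv_ι, ResolEmbLib.lin_ι, map_zero, sub_zero, sub_self]
    exact zero_mem _
  | mul a b ha hb =>
    have key : a * b - algebraMap R _ (algebraMapInv (a * b)) -
        SymmetricAlgebra.ι R N (ResolEmbLib.lin R N (a * b)) =
        algebraMap R _ (algebraMapInv a) * (b - algebraMap R _ (algebraMapInv b) - SymmetricAlgebra.ι R N (ResolEmbLib.lin R N b)) +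
        algebraMap R _ (algebraMapInv b) * (a - algebraMap R _ (algebraMapInv a) - SymmetricAlgebra.ι R N (ResolEmbLib.lin R N a)) +
        (a - algebraMap R _ (algebraMapInv a)) * (b - algebraMap R _ (algebraMapInv b)) := by
      rw [ResolEmbLib.lin_mul, map_add, map_smul, map_smul, Algebra.smul_def, Algebra.smul_def, map_mul, map_mul]
      ring
    rw [key]
    refine add_mem (add_mem (Ideal.mul_mem_left _ _ hb) (Ideal.mul_mem_left _ _ ha)) ?_
    have h : ∀ c : SymmetricAlgebra R N, c - algebraMap R _ (algebraMapInv c) ∈ K := fun c => by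
      rw [hK, RingHom.mem_ker]
      show algebraMapInv (c - algebraMap R _ (algebraMapInv c)) = 0
      rw [map_sub, AlgHom.commutes]
      exact sub_self _
    rw [pow_two]
    exact Ideal.mul_mem_mul (h a) (h b)
  | add a b ha hb =>
    have key := add_mem ha hb
    convert key using 1
    simp only [map_add]
    ring

theorem lin_eq_zero_of_mem_sq (x : SymmetricAlgebra R N)
    (hx : x ∈ RingHom.ker (algebraMapInv (R := R) (M := N)).toRingHom ^ 2) : ResolEmbLib.lin R N x = 0 := by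
  rw [pow_two] at hx
  refine Submodule.mul_induction_on hx (fun a ha b hb => ?_) fun a b ha hb => by rw [map_add, ha, hb, add_zero]
  rw [ResolEmbLib.lin_mul, show algebraMapInv a = 0 from ha, show algebraMapInv b = 0 from hb, zero_smul, zero_smul,
    add_zero]

end Ring

theorem ker_app_sq {X Y Z : Scheme.{u}} (f : X ⟶ Z) (g : Y ⟶ Z) [QuasiCompact f] [QuasiCompact g]
    (h : f.ker = g.ker ^ 2) {V : Z.Opens} (hV : IsAffineOpen V) :
    RingHom.ker (f.app V).hom = RingHom.ker (g.app V).hom ^ 2 := by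
  rw [← Scheme.Hom.ker_apply f ⟨V, hV⟩, ← Scheme.Hom.ker_apply g ⟨V, hV⟩, h, Scheme.IdealSheafData.ideal_pow,
    Pi.pow_apply]

/-- The data of a first neighbourhood of the zero section. -/
structure Data {D : Scheme.{u}} (M : D.Modules) (V C : Scheme.{u}) where
  /-- the bundle projection -/
  π : V ⟶ D
  /-- the inclusion of the neighbourhood -/
  ι : C ⟶ V
  /-- the zero section -/
  i : D ⟶ C
  affine : IsAffineHom π
  lft : LocallyOfFiniteType π
  closedι : IsClosedImmersion ι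
  closedi : IsClosedImmersion i
  i_π : i ≫ ι ≫ π = 𝟙 D
  hker : ι.ker = (i ≫ ι).ker ^ 2
  /-- the linear functions -/
  q : ∀ U : D.Opens, Γ(M, U) →+ Γ(V, π ⁻¹ᵁ U)
  q_smul : ∀ (U : D.Opens) (r : Γ(D, U)) (m : Γ(M, U)), q U (r • m) = π.app U r * q U m
  q_res : ∀ {U W : D.Opens} (h : W ≤ U) (m : Γ(M, U)),
    q W (M.presheaf.map (homOfLE h).op m) = V.presheaf.map (homOfLE (π.preimage_mono h)).op (q U m)
  q_zero : ∀ (U : D.Opens) (m : Γ(M, U)), (i ≫ ι).app (π ⁻¹ᵁ U) (q U m) = 0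
  chart : ∀ U : D.Opens, IsAffineOpen U →
    ∃ τ : SymmetricAlgebra Γ(D, U) Γ(M, U) →+* Γ(V, π ⁻¹ᵁ U),
      Function.Bijective τ ∧ (∀ a, τ (algebraMap _ _ a) = π.app U a) ∧
      ∀ m, τ (SymmetricAlgebra.ι _ _ m) = q U m

namespace Data

variable {D V C : Scheme.{u}} {M : D.Modules} (T : Data M V C)

/-- The projection of the neighbourhood. -/
abbrev proj : C ⟶ D := T.ι ≫ T.π

instance : IsAffineHom T.π := T.affine

instance : IsClosedImmersion T.ι := T.closedι

instance : IsClosedImmersion T.i := T.closedi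

theorem app_eq_zero_iff (U : D.Opens) (h : U ≤ (T.i ≫ T.ι) ⁻¹ᵁ (T.π ⁻¹ᵁ U)) (z : Γ(V, T.π ⁻¹ᵁ U)) :
    (T.i ≫ T.ι).app (T.π ⁻¹ᵁ U) z = 0 ↔ (T.i ≫ T.ι).appLE (T.π ⁻¹ᵁ U) U h z = 0 := by
  have hle : (T.i ≫ T.ι) ⁻¹ᵁ (T.π ⁻¹ᵁ U) ≤ U := by
    rw [← Scheme.Hom.comp_preimage, Category.assoc, T.i_π]; exact le_rfl
  haveI : IsIso (homOfLE h) := ⟨homOfLE hle, Subsingleton.elim _ _, Subsingleton.elim _ _⟩
  show _ ↔ D.presheaf.map (homOfLE h).op ((T.i ≫ T.ι).app _ z) = 0
  exact (map_eq_zero_iff (D.presheaf.map (homOfLE h).op).hom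
    (ConcreteCategory.bijective_of_isIso (D.presheaf.map (homOfLE h).op)).1).symm

theorem ker_zero_app {U : D.Opens} (τ : SymmetricAlgebra Γ(D, U) Γ(M, U) →+* Γ(V, T.π ⁻¹ᵁ U))
    (hτ : Function.Bijective τ) (hτa : ∀ a, τ (algebraMap _ _ a) = T.π.app U a)
    (hτm : ∀ m, τ (SymmetricAlgebra.ι _ _ m) = T.q U m) :
    RingHom.ker ((T.i ≫ T.ι).app (T.π ⁻¹ᵁ U)).hom =
      (RingHom.ker (algebraMapInv (R := Γ(D, U)) (M := Γ(M, U))).toRingHom).map τ := by
  have h : U ≤ (T.i ≫ T.ι) ⁻¹ᵁ (T.π ⁻¹ᵁ U) := by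
    rw [← Scheme.Hom.comp_preimage, Category.assoc, T.i_π]; exact le_rfl
  let s : SymmetricAlgebra Γ(D, U) Γ(M, U) →+* Γ(D, U) :=
    ((T.i ≫ T.ι).appLE (T.π ⁻¹ᵁ U) U h).hom.comp τ
  have hs : ∀ x, s x = algebraMapInv x := by
    refine fun x => RingHom.congr_fun (SymAlgLib.ringHom_ext (G := (algebraMapInv (R := Γ(D, U)) (M := Γ(M, U))).toRingHom)
      (F := s) (fun a => ?_) fun m => ?_) x
    · show (T.i ≫ T.ι).appLE _ _ _ (τ (algebraMap _ _ a)) = algebraMapInv (algebraMap _ _ a)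
      rw [hτa, AlgHom.commutes, Scheme.Hom.app_eq_appLE, ← CommRingCat.comp_apply, Scheme.Hom.appLE_comp_appLE]
      simp only [Category.assoc, T.i_π]
      rw [Scheme.Hom.appLE]
      simp
      exact congr($(D.presheaf.map_id (op U)) a)
    · show (T.i ≫ T.ι).appLE _ _ _ (τ (SymmetricAlgebra.ι _ _ m)) = algebraMapInv (SymmetricAlgebra.ι _ _ m)
      rw [hτm, SymmetricAlgebra.algebraMapInv_ι]
      exact (T.app_eq_zero_iff U h _).1 (T.q_zero U m)
  refine le_antisymm (fun z hz => ?_) (Ideal.map_le_iff_le_comap.2 fun x hx => ?_)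
  · obtain ⟨x, rfl⟩ := hτ.2 z
    refine Ideal.mem_map_of_mem τ ?_
    show algebraMapInv x = 0
    rw [← hs]
    exact (T.app_eq_zero_iff U h _).1 hz
  · exact (T.app_eq_zero_iff U h _).2 ((hs x).trans hx)

theorem ker_sec_sq {U : D.Opens} (hU : IsAffineOpen U) :
    RingHom.ker (T.i.app (T.proj ⁻¹ᵁ U)).hom ^ 2 = ⊥ := by
  rw [eq_bot_iff, pow_two, Ideal.mul_le]
  intro a ha b hb
  have hV : IsAffineOpen (T.π ⁻¹ᵁ U) := hU.preimage _
  obtain ⟨a, rfl⟩ := T.ι.app_surjective _ hV a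
  obtain ⟨b, rfl⟩ := T.ι.app_surjective _ hV b
  refine Ideal.mem_bot.2 ?_
  have key : a * b ∈ RingHom.ker (T.ι.app (T.π ⁻¹ᵁ U)).hom := by
    rw [ker_app_sq T.ι (T.i ≫ T.ι) T.hker hV, pow_two]
    exact Ideal.mul_mem_mul (show (T.i ≫ T.ι).app _ a = 0 from ha) (show (T.i ≫ T.ι).app _ b = 0 from hb)
  exact (map_mul (T.ι.app (T.π ⁻¹ᵁ U)).hom a b).symm.trans key

theorem ker_sec_pow : T.i.ker ^ 2 = ⊥ := by
  refine Scheme.IdealSheafData.ext_of_iSup_eq_top (fun U : D.affineOpens => ⟨T.proj ⁻¹ᵁ U.1, U.2.preimage _⟩) ?_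
    fun U => ?_
  · rw [← Scheme.Hom.preimage_iSup, iSup_affineOpens_eq_top, Scheme.Hom.preimage_top]
  · rw [Scheme.IdealSheafData.ideal_pow, Pi.pow_apply, Scheme.Hom.ker_apply, T.ker_sec_sq U.2]
    rfl

theorem le_coborderRange (W : C.Opens) : W ≤ T.i.coborderRange := fun x _ => by
  show x ∈ coborder (Set.range T.i.base)
  rw [T.i.isClosedEmbedding.isClosed_range.coborder_eq]
  trivial

/-- The function on the neighbourhood attached to a section of `M`. -/
def lin1 (U : D.Opens) : Γ(M, U) →+ Γ(C, T.proj ⁻¹ᵁ U) :=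
  (T.ι.app (T.π ⁻¹ᵁ U)).hom.toAddMonoidHom.comp (T.q U)

theorem sec_lin1 (U : D.Opens) (m : Γ(M, U)) : T.i.app (T.proj ⁻¹ᵁ U) (T.lin1 U m) = 0 := T.q_zero U m

theorem lin1_smul (U : D.Opens) (r : Γ(D, U)) (m : Γ(M, U)) :
    T.lin1 U (r • m) = T.proj.app U r * T.lin1 U m := by
  show T.ι.app _ (T.q U (r • m)) = _
  rw [T.q_smul]
  exact map_mul (T.ι.app (T.π ⁻¹ᵁ U)).hom _ _

theorem lin1_res {U W : D.Opens} (h : W ≤ U) (m : Γ(M, U)) :
    T.lin1 W (M.presheaf.map (homOfLE h).op m) =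
      C.presheaf.map (homOfLE (T.proj.preimage_mono h)).op (T.lin1 U m) := by
  show T.ι.app _ (T.q W (M.presheaf.map (homOfLE h).op m)) = _
  rw [T.q_res h]
  exact congr($(T.ι.naturality (homOfLE (T.π.preimage_mono h)).op) _)

/-- The conormal class of a section of `M`. -/
def cls (U : D.Opens) (m : Γ(M, U)) : Γ(Omega.conormal T.i, T.i ⁻¹ᵁ (T.proj ⁻¹ᵁ U)) :=
  OmegaSh.conormalSect T.i (T.proj ⁻¹ᵁ U) (ConormalSecLib.lift T.i _ (T.lin1 U m) (T.sec_lin1 U m))

theorem cls_add (U : D.Opens) (a b : Γ(M, U)) : T.cls U (a + b) = T.cls U a + T.cls U b := by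
  unfold cls
  refine Eq.trans (congrArg _ ?_) (map_add (OmegaSh.conormalSect T.i (T.proj ⁻¹ᵁ U)).hom _ _)
  refine ConormalSecLib.idealSect_injective T.i _ ?_
  refine (ConormalSecLib.idealSect_lift T.i _ _ _).trans ((map_add (T.lin1 U) a b).trans ?_)
  refine Eq.trans ?_ (map_add (OmegaSh.idealSect T.i.ker (T.proj ⁻¹ᵁ U)) _ _).symm
  rw [ConormalSecLib.idealSect_lift, ConormalSecLib.idealSect_lift]

theorem cls_res {U W : D.Opens} (h : W ≤ U) (m : Γ(M, U)) :
    T.cls W (M.presheaf.map (homOfLE h).op m) =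
      (Omega.conormal T.i).presheaf.map (homOfLE (T.i.preimage_mono (T.proj.preimage_mono h))).op (T.cls U m) := by
  unfold cls
  refine Eq.trans (congrArg _ ?_) (OmegaSh.pullSect_map T.i _ (T.proj.preimage_mono h) _)
  refine ConormalSecLib.idealSect_injective T.i _ ?_
  rw [ConormalSecLib.idealSect_map, ConormalSecLib.idealSect_lift, ConormalSecLib.idealSect_lift]
  exact T.lin1_res h m

theorem cls_smul (U : D.Opens) (r : Γ(D, U)) (m : Γ(M, U)) :
    T.cls U (r • m) = T.i.app (T.proj ⁻¹ᵁ U) (T.proj.app U r) • T.cls U m := by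
  unfold cls
  refine Eq.trans (congrArg _ ?_) (OmegaSh.pullSect_smul T.i _ _ (T.proj.app U r) _)
  refine ConormalSecLib.idealSect_injective T.i _ ?_
  rw [ConormalSecLib.idealSect_smul, ConormalSecLib.idealSect_lift, ConormalSecLib.idealSect_lift]
  exact T.lin1_smul U r m

/-- The comparison of `M` with the conormal sheaf. -/
def eta₀ : M ⟶ (Scheme.Modules.pushforward (T.i ≫ T.proj)).obj (Omega.conormal T.i) :=
  ⟨PresheafOfModules.homMk
    { app := fun U => AddCommGrpCat.ofHom (AddMonoidHom.mk' (fun m => T.cls U.unop m) (T.cls_add U.unop))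
      naturality := fun U W i => by
        ext m
        exact T.cls_res (leOfHom i.unop) m }
    fun U r m => T.cls_smul U.unop r m⟩

theorem bijective_eta₀ {U : D.Opens} (hU : IsAffineOpen U) : Function.Bijective (T.eta₀.app U) := by
  have hW : IsAffineOpen (T.proj ⁻¹ᵁ U) := hU.preimage _
  have hV : IsAffineOpen (T.π ⁻¹ᵁ U) := hU.preimage _
  obtain ⟨τ, hτ, hτa, hτm⟩ := T.chart U hU
  have hK := T.ker_zero_app τ hτ hτa hτm
  refine ⟨(injective_iff_map_eq_zero _).2 fun m hm => ?_, fun n => ?_⟩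
  · have h1 := ConormalInjLib.mem_ker_sq_of_conormalSect_eq_zero T.i hW (T.le_coborderRange _)
      (ConormalSecLib.lift T.i (T.proj ⁻¹ᵁ U) (T.lin1 U m) (T.sec_lin1 U m)) hm
    rw [ConormalSecLib.idealSect_lift, T.ker_sec_sq hU, Ideal.mem_bot] at h1
    have h2 : T.q U m ∈ RingHom.ker (T.ι.app (T.π ⁻¹ᵁ U)).hom := h1
    rw [ker_app_sq T.ι (T.i ≫ T.ι) T.hker hV, hK, ← Ideal.map_pow, Ideal.mem_map_iff_of_surjective τ hτ.2] at h2
    obtain ⟨x, hx, hxm⟩ := h2
    rw [← hτm] at hxm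
    rw [hτ.1 hxm] at hx
    simpa [ResolEmbLib.lin_ι] using lin_eq_zero_of_mem_sq _ _ _ hx
  · obtain ⟨s, rfl⟩ := Groth.Agent.S9772.exists_conormalSect_eq T.i hW n
    obtain ⟨z, hz⟩ := T.ι.app_surjective _ hV (OmegaSh.idealSect T.i.ker (T.proj ⁻¹ᵁ U) s)
    obtain ⟨a, rfl⟩ := hτ.2 z
    refine ⟨ResolEmbLib.lin _ _ a, congrArg (OmegaSh.conormalSect T.i (T.proj ⁻¹ᵁ U)) ?_⟩
    refine ConormalSecLib.idealSect_injective T.i _ ?_
    refine (ConormalSecLib.idealSect_lift T.i _ _ _).trans (Eq.trans ?_ hz)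
    have h0 : algebraMapInv a = 0 := by
      have h2 : τ a ∈ RingHom.ker ((T.i ≫ T.ι).app (T.π ⁻¹ᵁ U)).hom :=
        (congrArg (T.i.app (T.proj ⁻¹ᵁ U)).hom hz).trans (ConormalSecLib.app_idealSect T.i _ s)
      rw [hK, Ideal.mem_map_iff_of_surjective τ hτ.2] at h2
      obtain ⟨x, hx, hxa⟩ := h2
      exact hτ.1 hxa ▸ hx
    have hmem : τ a - T.q U (ResolEmbLib.lin _ _ a) ∈ RingHom.ker (T.ι.app (T.π ⁻¹ᵁ U)).hom := by
      rw [ker_app_sq T.ι (T.i ≫ T.ι) T.hker hV, hK, ← Ideal.map_pow, ← hτm, ← map_sub]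
      refine Ideal.mem_map_of_mem τ ?_
      simpa [h0] using sub_mem_sq _ _ a
    exact (sub_eq_zero.1 ((map_sub (T.ι.app (T.π ⁻¹ᵁ U)).hom _ _).symm.trans hmem)).symm

theorem nonempty_iso : Nonempty (Omega.conormal T.i ≅ M) := by
  haveI : IsIso T.eta₀ := QCohLib.isIso_of_bijective_affine _ fun U hU => T.bijective_eta₀ hU
  exact ⟨((asIso T.eta₀) ≪≫ (Scheme.Modules.pushforwardCongr T.i_π).app _ ≪≫
    (Scheme.Modules.pushforwardId D).app _).symm⟩

end Data

variable {D : Scheme.{u}} (M : D.Modules) [Coh.IsQCoh M]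

local notation "A" => SymAlgLib.symAlg M

/-- The linear functions on the bundle. -/
def linFun (U : D.Opens) : Γ(M, U) →+ Γ((A).spec, (A).π ⁻¹ᵁ U) :=
  AddMonoidHom.mk' (fun m => (toF A).app (op U) ((SymAlgLib.symι M).app U m)) fun a b => by
    rw [map_add]
    exact map_add ((toF A).app (op U)).hom _ _

theorem exists_zero : ∃ σ : D ⟶ (A).spec, σ ≫ (A).π = 𝟙 D ∧
    ∀ (U : D.Opens) (m : Γ(M, U)), σ.app ((A).π ⁻¹ᵁ U) (linFun M U m) = 0 := by
  obtain ⟨ψ, hψ, -⟩ := SymAlgLib.existsUnique_lift M (RelSpec.QCAlg.directImage (𝟙 D)) 0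
  obtain ⟨σ, ⟨hσ, e⟩, -⟩ := CycBdlLib.pts A (𝟙 D) ψ
  refine ⟨σ, hσ, fun U m => ?_⟩
  have h0 : σ.appLE ((A).π ⁻¹ᵁ U) (𝟙 D ⁻¹ᵁ U) (preimage_le hσ U) (linFun M U m) = 0 :=
    (CycBdlLib.toF_algHom_app A (𝟙 D) σ hσ U _).symm.trans
      ((congr(($e).app (op U) ((SymAlgLib.symι M).app U m))).trans congr(($hψ).app U m))
  have hle : σ ⁻¹ᵁ ((A).π ⁻¹ᵁ U) ≤ 𝟙 D ⁻¹ᵁ U := by rw [← Scheme.Hom.comp_preimage, hσ]
  haveI : IsIso (homOfLE (preimage_le hσ U)) := ⟨homOfLE hle, Subsingleton.elim _ _, Subsingleton.elim _ _⟩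
  exact (map_eq_zero_iff (D.presheaf.map (homOfLE (preimage_le hσ U)).op).hom
    (ConcreteCategory.bijective_of_isIso (D.presheaf.map (homOfLE (preimage_le hσ U)).op)).1).1 h0

theorem exists_data (hM : Coh.IsCoh M) : ∃ (C : Scheme.{u}), Nonempty (Data M (A).spec C) := by
  obtain ⟨σ, hσ, h0⟩ := exists_zero M
  haveI : IsClosedImmersion (σ ≫ (A).π) := by rw [hσ]; infer_instance
  haveI : IsClosedImmersion σ := IsClosedImmersion.of_comp σ (A).π
  have hle : (σ.ker ^ 2).subschemeι.ker ≤ σ.ker := by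
    rw [Scheme.IdealSheafData.ker_subschemeι]
    exact fun U => Ideal.pow_le_self two_ne_zero
  let i := IsClosedImmersion.lift (σ.ker ^ 2).subschemeι σ hle
  have hi : i ≫ (σ.ker ^ 2).subschemeι = σ := IsClosedImmersion.lift_fac _ _ _
  haveI : IsClosedImmersion (i ≫ (σ.ker ^ 2).subschemeι) := by rw [hi]; infer_instance
  refine ⟨_, ⟨{
    π := (A).π
    ι := (σ.ker ^ 2).subschemeι
    i := i
    affine := inferInstance
    lft := Groth.Agent.S8267.result M hM _ _ (SymAlgLib.isSymAlg M)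
    closedι := inferInstance
    closedi := IsClosedImmersion.of_comp_isClosedImmersion i (σ.ker ^ 2).subschemeι
    i_π := by rw [← Category.assoc, hi, hσ]
    hker := by rw [hi]; exact Scheme.IdealSheafData.ker_subschemeι _
    q := linFun M
    q_smul := fun U r m => ?_
    q_res := fun {U W} h m => ?_
    q_zero := fun U m => ?_
    chart := fun U hU => ?_ }⟩⟩
  · show (toF A).app (op U) ((SymAlgLib.symι M).app U (r • m)) = _
    rw [QCohLib.app_smul]
    exact (map_mul ((toF A).app (op U)).hom _ _).trans (congrArg (· * _) (SymAlgLib.toF_str_app A U r))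
  · show (toF A).app (op W) ((SymAlgLib.symι M).app W (M.presheaf.map (homOfLE h).op m)) = _
    rw [QCohLib.app_map]
    exact congr($((toF A).naturality (homOfLE h).op) _)
  · have aux : ∀ k : D ⟶ (A).spec, σ = k → k.app ((A).π ⁻¹ᵁ U) (linFun M U m) = 0 := by
      rintro k rfl; exact h0 U m
    exact aux _ hi.symm
  · obtain ⟨e, ha, hm⟩ := SymAlgLib.exists_affineIso (SymAlgLib.isSymAlg M) ⟨U, hU⟩
    haveI : IsIso (toF A) := by unfold toF; infer_instance
    refine ⟨((toF A).app (op U)).hom.comp e.toRingHom,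
      (ConcreteCategory.bijective_of_isIso ((toF A).app (op U))).comp e.bijective, fun a => ?_, fun m => ?_⟩
    · show (toF A).app (op U) (e (algebraMap _ _ a)) = _
      rw [ha]
      exact SymAlgLib.toF_str_app A U a
    · show (toF A).app (op U) (e (SymmetricAlgebra.ι _ _ m)) = _
      rw [hm]
      rfl

/-- The split ribbon with given conormal sheaf. -/
theorem exists_split {S : Scheme.{u}} (d : D ⟶ S) [LocallyOfFiniteType d] (hM : Coh.IsCoh M) :
    ∃ (C : Scheme.{u}) (sC : C ⟶ S) (I : C.IdealSheafData) (φ : I.subscheme ≅ D) (r : C ⟶ I.subscheme),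
      LocallyOfFiniteType sC ∧ I ^ 2 = ⊥ ∧ φ.hom ≫ d = I.subschemeι ≫ sC ∧ I.subschemeι ≫ r = 𝟙 I.subscheme ∧
        r ≫ I.subschemeι ≫ sC = sC ∧
        Nonempty ((Scheme.Modules.pullback (φ.inv ≫ I.subschemeι)).obj (ClSub.idealMod I) ≅ M) := by
  obtain ⟨C, ⟨T⟩⟩ := exists_data M hM
  haveI := T.lft
  let φ : T.i.ker.subscheme ≅ D := (asIso T.i.toImage).symm
  have hi : φ.inv ≫ T.i.ker.subschemeι = T.i := Scheme.Hom.toImage_imageι T.i
  have hι : T.i.ker.subschemeι = φ.hom ≫ T.i := (φ.hom_inv_id_assoc _).symm.trans (congrArg (φ.hom ≫ ·) hi)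
  refine ⟨C, T.proj ≫ d, T.i.ker, φ, T.proj ≫ φ.inv, inferInstance, T.ker_sec_pow, ?_, ?_, ?_, ?_⟩
  · refine Eq.trans ?_ (congrArg (· ≫ T.proj ≫ d) hι).symm
    simp [reassoc_of% T.i_π]
  · refine (congrArg (· ≫ T.proj ≫ φ.inv) hι).trans ?_
    simp [reassoc_of% T.i_π]
  · refine (congrArg (fun k => (T.proj ≫ φ.inv) ≫ k ≫ T.proj ≫ d) hι).trans ?_
    simp [reassoc_of% T.i_π]
  · rw [hi]
    exact T.nonempty_iso

end SplitRibLib

end
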